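import Groth.Agent.Lib.OX.AffinePush
import Groth.Agent.Lib.OX.AffineLocal
import Groth.Agent.Lib.OX.RestrictAdj
import Groth.Agent.Lib.OX.AffineReflect
import Groth.Agent.Lib.OX.AffineHomotopy
import Groth.Agent.Lib.DerCat.MapAdj
import Groth.Agent.Lib.Cohom.PushDerived
import Groth.Agent.Lib.QCoh.FT
import Mathlib.CategoryTheory.Abelian.Subcategory
import Mathlib.CategoryTheory.Adjunction.Restrict
import Mathlib.CategoryTheory.Preadditive.LeftExact

/-!
# Affine charts of the derived category of quasi-coherent modules

For an open immersion `j : Spec R ⟶ X` which is an affine morphism, restriction and direct image are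
exact adjoint functors between quasi-coherent modules and `R`-modules.
-/

set_option autoImplicit false
set_option maxHeartbeats 1000000
set_option linter.style.haveILetI false
set_option linter.unusedSectionVars false
set_option backward.isDefEq.respectTransparency false
universe u

open CategoryTheory CategoryTheory.Limits CategoryTheory.Pretriangulated AlgebraicGeometry

attribute [local instance] HasDerivedCategory.standard

noncomputable section

namespace GrothLib.DQEquiv25

/-- A functor carrying short exact sequences to short exact sequences is exact. -/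
theorem exact_of_shortExact {A B : Type*} [Category A] [Category B] [Abelian A] [Abelian B] (F : A ⥤ B) [F.Additive]
    (h : ∀ S : ShortComplex A, S.ShortExact → (S.map F).ShortExact) :
    PreservesFiniteLimits F ∧ PreservesFiniteColimits F :=
  ((F.exact_tfae.out 0 3
    (a := ∀ (T : ShortComplex A), T.ShortExact → (T.map F).ShortExact)
    (b := PreservesFiniteLimits F ∧ PreservesFiniteColimits F))).1 h

/-- An exact faithful functor reflects short exact sequences. -/
theorem shortExact_of_map {A B : Type*} [Category A] [Category B] [Abelian A] [Abelian B] (F : A ⥤ B) [F.Additive]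
    [F.Faithful] [PreservesFiniteLimits F] [PreservesFiniteColimits F] (S : ShortComplex A)
    (h : (S.map F).ShortExact) : S.ShortExact :=
  { exact := (ShortComplex.exact_map_iff_of_faithful S F).1 h.exact
    mono_f := F.mono_of_mono_map (f := S.f) h.mono_f
    epi_g := F.epi_of_epi_map (f := S.g) h.epi_g }

variable {X : Scheme.{u}}
  [ObjectProperty.ContainsZero (fun M : X.Modules => Coh.IsQCoh M)]
  [ObjectProperty.IsClosedUnderKernels (fun M : X.Modules => Coh.IsQCoh M)]
  [ObjectProperty.IsClosedUnderCokernels (fun M : X.Modules => Coh.IsQCoh M)]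
  [ObjectProperty.IsClosedUnderFiniteProducts (fun M : X.Modules => Coh.IsQCoh M)]
  [PreservesFiniteLimits (ObjectProperty.ι (fun M : X.Modules => Coh.IsQCoh M))]
  [PreservesFiniteColimits (ObjectProperty.ι (fun M : X.Modules => Coh.IsQCoh M))]

variable (X) in
/-- Quasi-coherent modules. -/
abbrev QC : Type (u + 1) := ObjectProperty.FullSubcategory (fun M : X.Modules => Coh.IsQCoh M)

variable (X) in
/-- The inclusion of quasi-coherent modules. -/
abbrev qι : QC X ⥤ X.Modules := ObjectProperty.ι (fun M : X.Modules => Coh.IsQCoh M)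

variable (X) in
/-- The functor `D(QCoh(O_X)) ⥤ D(O_X)`. -/
abbrev TD : DerivedCategory (QC X) ⥤ DCoh.D X := (qι X).mapDerivedCategory

/-- Cohomology commutes with `D(QCoh(O_X)) ⥤ D(O_X)`. -/
noncomputable def hdTIso (B : DerivedCategory (QC X)) (q : ℤ) :
    DCoh.HD ((TD X).obj B) q ≅ (qι X).obj ((DerivedCategory.homologyFunctor (QC X) q).obj B) :=
  (DerTrunc.homologyMapIso (qι X) q).app B

theorem isQCohD_TD (B : DerivedCategory (QC X)) : DCoh.IsQCohD ((TD X).obj B) := fun q =>
  OX.isQCoh_of_iso (hdTIso B q).symm ((DerivedCategory.homologyFunctor (QC X) q).obj B).property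

variable {R : CommRingCat.{u}} (j : Spec R ⟶ X) [IsOpenImmersion j] [QuasiCompact j]

/-- Restriction to the chart. -/
abbrev resQ : QC X ⥤ ModuleCat.{u} R :=
  qι X ⋙ Scheme.Modules.restrictFunctor j ⋙ moduleSpecΓFunctor

theorem isQCoh_push_tilde (M : ModuleCat.{u} R) :
    Coh.IsQCoh ((Scheme.Modules.pushforward j).obj ((tilde.functor R).obj M)) := by
  haveI : ((tilde.functor R).obj M).IsQuasicoherent := inferInstance
  exact QCoh.isQuasicoherent_pushforward j _

/-- Direct image from the chart. -/
abbrev pushQ : ModuleCat.{u} R ⥤ QC X :=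
  ObjectProperty.lift (fun M : X.Modules => Coh.IsQCoh M) (tilde.functor R ⋙ Scheme.Modules.pushforward j)
    (isQCoh_push_tilde j)

/-- `(M|_U)~ ≅ M|_U`. -/
def tildeResIso : resQ j ⋙ tilde.functor R ≅ qι X ⋙ Scheme.Modules.restrictFunctor j :=
  NatIso.ofComponents (fun M =>
      haveI : M.obj.IsQuasicoherent := M.property
      haveI : ((Scheme.Modules.restrictFunctor j).obj M.obj).IsQuasicoherent :=
        inferInstanceAs (M.obj.restrict j).IsQuasicoherent
      @asIso _ _ _ _ ((tilde.adjunction (R := R)).counit.app ((Scheme.Modules.restrictFunctor j).obj M.obj))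
        (@Scheme.Modules.isIso_fromTildeΓ_of_isQuasicoherent _ _ ‹_›))
    fun {M N} f => (tilde.adjunction (R := R)).counit.naturality ((Scheme.Modules.restrictFunctor j).map f.hom)

/-- Restriction is left adjoint to direct image on quasi-coherent modules. -/
def resPushAdj : resQ j ⊣ pushQ j :=
  (Scheme.Modules.restrictAdjunction j).restrictFullyFaithful
    (ObjectProperty.fullyFaithfulι _) tilde.fullyFaithfulFunctor
    (tildeResIso j).symm (Iso.refl _)

/-- Restricting a direct image from the chart gives back the module. -/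
def pushResIso : pushQ j ⋙ resQ j ≅ 𝟭 (ModuleCat.{u} R) :=
  (NatIso.ofComponents (fun _ => Iso.refl _) (fun _ => (Category.comp_id _).trans (Category.id_comp _).symm) :
      pushQ j ⋙ resQ j ≅
        ((tilde.functor R ⋙ Scheme.Modules.pushforward j) ⋙ Scheme.Modules.restrictFunctor j) ⋙
          moduleSpecΓFunctor (R := R)) ≪≫
    Functor.isoWhiskerRight (Functor.associator _ _ _ ≪≫
      Functor.isoWhiskerLeft (tilde.functor R) (asIso (Scheme.Modules.restrictAdjunction j).counit) ≪≫
      Functor.rightUnitor _) _ ≪≫ (tilde.toTildeΓNatIso (R := R)).symm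

instance additive_resQ : (resQ j).Additive :=
  haveI : (moduleSpecΓFunctor (R := R)).Additive := (tilde.adjunction (R := R)).right_adjoint_additive
  inferInstance

instance additive_pushQ : (pushQ j).Additive := (resPushAdj j).right_adjoint_additive

instance additive_resQ_tilde : (resQ j ⋙ tilde.functor R).Additive := Functor.additive_of_iso (tildeResIso j).symm

variable [PreservesFiniteLimits (tilde.functor R)]

theorem exact_resQ : PreservesFiniteLimits (resQ j) ∧ PreservesFiniteColimits (resQ j) :=
  exact_of_shortExact _ fun S hS => shortExact_of_map (tilde.functor R) _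
    (ShortComplex.shortExact_of_iso (ShortComplex.mapNatIso S (tildeResIso j)).symm
      ((hS.map_of_exact (qι X)).map_of_exact (Scheme.Modules.restrictFunctor j)))

instance preservesFiniteLimits_resQ : PreservesFiniteLimits (resQ j) := (exact_resQ j).1

instance preservesFiniteColimits_resQ : PreservesFiniteColimits (resQ j) := (exact_resQ j).2

theorem exact_pushQ [IsAffineHom j] : PreservesFiniteLimits (pushQ j) ∧ PreservesFiniteColimits (pushQ j) :=
  exact_of_shortExact _ fun S hS => shortExact_of_map (qι X) _ <| by
    have h := hS.map_of_exact (tilde.functor R)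
    haveI : ((tilde.functor R).obj S.X₁).IsQuasicoherent := inferInstance
    exact Cohom.pushforward_map_shortExact j h (Cohom.acyclicOn_of_isAffineHom j ((tilde.functor R).obj S.X₁))

instance preservesFiniteLimits_pushQ [IsAffineHom j] : PreservesFiniteLimits (pushQ j) := (exact_pushQ j).1

instance preservesFiniteColimits_pushQ [IsAffineHom j] : PreservesFiniteColimits (pushQ j) := (exact_pushQ j).2

/-- Restriction to the chart on derived categories. -/
abbrev resQD : DerivedCategory (QC X) ⥤ DerivedCategory (ModuleCat.{u} R) := (resQ j).mapDerivedCategory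

theorem bijective_resQD {P : DerivedCategory (ModuleCat.{u} R) ⥤ DerivedCategory (QC X)} (adj : resQD j ⊣ P)
    [IsIso adj.counit] (A : DerivedCategory (QC X)) (N : DerivedCategory (ModuleCat.{u} R)) :
    Function.Bijective fun φ : A ⟶ P.obj N => (resQD j).map φ := by
  haveI : IsIso (adj.counit.app N) := inferInstance
  have e : (fun φ : A ⟶ P.obj N => (resQD j).map φ) =
      (fun ψ => ψ ≫ inv (adj.counit.app N)) ∘ (adj.homEquiv A N).symm := funext fun φ => by
    simp only [Function.comp_apply, Adjunction.homEquiv_counit, Category.assoc, IsIso.hom_inv_id]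
    exact (Category.comp_id _).symm
  rw [e]
  exact ((Iso.homToEquiv (asIso (adj.counit.app N)).symm).bijective).comp (Equiv.bijective _)

/-- Restriction to the chart on both derived categories. -/
def TDresIso : TD X ⋙ OX.resD j ≅ resQD j ⋙ DCoh.tildeD R :=
  haveI : (resQ j ⋙ tilde.functor R).Additive := Functor.additive_of_iso (tildeResIso j).symm
  haveI : PreservesFiniteLimits (resQ j ⋙ tilde.functor R) := comp_preservesFiniteLimits _ _
  haveI : PreservesFiniteColimits (resQ j ⋙ tilde.functor R) := comp_preservesFiniteColimits _ _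
  DerCat.mapDerivedCompIso (qι X) (Scheme.Modules.restrictFunctor j) (resQ j ⋙ tilde.functor R)
      (tildeResIso j).symm ≪≫
    (DerCat.mapDerivedCompIso (resQ j) (tilde.functor R) (resQ j ⋙ tilde.functor R) (Iso.refl _)).symm

/-- Full faithfulness into direct images from the chart. -/
theorem bijective_TD_P {P : DerivedCategory (ModuleCat.{u} R) ⥤ DerivedCategory (QC X)} (adj : resQD j ⊣ P)
    [IsIso adj.counit] (A : DerivedCategory (QC X)) (N : DerivedCategory (ModuleCat.{u} R))
    (hw : Nonempty ((TD X).obj (P.obj N) ≅ (OX.RR j).obj ((DCoh.tildeD R).obj N))) :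
    Function.Bijective fun φ : A ⟶ P.obj N => (TD X).map φ := by
  obtain ⟨hfull, hfaith, -⟩ := OX.tildeD_full_faithful_essImage (R := R)
  haveI := hfull
  haveI := hfaith
  obtain ⟨w⟩ := hw
  let L := (DCoh.tildeD R).obj N
  haveI : IsIso ((OX.resDAdj j).counit.app L) := inferInstance
  have hres : Function.Bijective fun ψ : (TD X).obj A ⟶ (TD X).obj (P.obj N) => (OX.resD j).map ψ := by
    have e : (fun ψ : (TD X).obj A ⟶ (TD X).obj (P.obj N) => (OX.resD j).map ψ) =
        (fun χ => χ ≫ inv ((OX.resDAdj j).counit.app L) ≫ (OX.resD j).map w.inv) ∘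
          ((OX.resDAdj j).homEquiv _ L).symm ∘ (fun ψ => ψ ≫ w.hom) := funext fun ψ => by
      simp only [Function.comp_apply, Adjunction.homEquiv_counit, Category.assoc, IsIso.hom_inv_id_assoc]
      rw [← Functor.map_comp, Category.assoc, w.hom_inv_id, Category.comp_id]
    rw [e]
    exact ((Iso.homToEquiv ((asIso ((OX.resDAdj j).counit.app L)).symm ≪≫ (OX.resD j).mapIso w.symm)).bijective).comp
      ((Equiv.bijective _).comp (Iso.homToEquiv w).bijective)
  refine Function.Bijective.of_comp_iff' hres _ |>.1 ?_
  have e : ((fun ψ => (OX.resD j).map ψ) ∘ fun φ : A ⟶ P.obj N => (TD X).map φ) =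
      (fun χ => (TDresIso j).hom.app A ≫ χ ≫ (TDresIso j).inv.app _) ∘ (fun g => (DCoh.tildeD R).map g) ∘
        fun φ => (resQD j).map φ := funext fun φ => by
    have h := (TDresIso j).hom.naturality φ
    dsimp only [Functor.comp_map, Function.comp_apply] at h ⊢
    rw [← Category.assoc, ← h, Category.assoc, Iso.hom_inv_id_app, Category.comp_id]
  rw [e]
  exact ((Iso.homCongr ((TDresIso j).app A) ((TDresIso j).app _)).symm.bijective).comp
    ((Functor.FullyFaithful.ofFullyFaithful (DCoh.tildeD R)).homEquiv.bijective.comp (bijective_resQD j adj A N))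

variable [IsAffineHom j]

/-- Direct image from the chart on derived categories. -/
abbrev pushQD : DerivedCategory (ModuleCat.{u} R) ⥤ DerivedCategory (QC X) := (pushQ j).mapDerivedCategory

/-- The adjunction on derived categories. -/
def adjQD : resQD j ⊣ pushQD j := DerCat.mapDerivedAdj (resPushAdj j)

instance isIso_counit : IsIso (adjQD j).counit :=
  (adjQD j).isIso_counit_of_iso (DerCat.mapDerivedCompIso (pushQ j) (resQ j) (𝟭 _) (pushResIso j) ≪≫
    OX.mapDerivedIdIso)

/-- Direct images from the chart in the two derived categories. -/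
theorem nonempty_TD_pushQD (N : DerivedCategory (ModuleCat.{u} R)) :
    Nonempty ((TD X).obj ((pushQD j).obj N) ≅ (OX.RR j).obj ((DCoh.tildeD R).obj N)) := by
  let C := DerivedCategory.Q.objPreimage N
  let e : DerivedCategory.Q.obj C ≅ N := DerivedCategory.Q.objObjPreimageIso N
  let tC := ((tilde.functor R).mapHomologicalComplex (ComplexShape.up ℤ)).obj C
  have hq : ∀ n, Coh.IsQCoh (tC.X n) := fun n =>
    (inferInstance : ((tilde.functor R).obj (C.X n)).IsQuasicoherent)
  exact ⟨(TD X).mapIso ((pushQD j).mapIso e.symm ≪≫ (pushQ j).mapDerivedCategoryFactors.app C) ≪≫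
    (qι X).mapDerivedCategoryFactors.app _ ≪≫
    DerivedCategory.Q.mapIso (HomologicalComplex.Hom.isoOfComponents (fun _ => Iso.refl _)
      (fun _ _ _ => (Category.id_comp _).trans (Category.comp_id _).symm)) ≪≫
    (OX.RRAffineCxIso j tC hq).symm ≪≫
    (OX.RR j).mapIso (((tilde.functor R).mapDerivedCategoryFactors.app C).symm ≪≫ (DCoh.tildeD R).mapIso e)⟩

end GrothLib.DQEquiv25
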