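import Groth.Agent.Lib.DQEquiv25.Chart
import Groth.Agent.Lib.OX.BVdB
import Groth.Agent.Lib.OX.LiftSupport
import Mathlib.CategoryTheory.Shift.Adjunction
import Groth.Agent.Lib.QCoh.Abelian

/-!
# `D(QCoh(O_X)) ⥤ D(O_X)` for affine diagonal

Induction on the number of charts of an affine cover on which an object does not vanish: the cone of
`K ⟶ Rj_*(K|_U)` vanishes on `U` and on every open on which `K` vanishes.
-/

set_option autoImplicit false
set_option maxHeartbeats 1000000
set_option linter.style.haveILetI false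
set_option linter.unusedSectionVars false
set_option backward.isDefEq.respectTransparency false
universe u

open CategoryTheory CategoryTheory.Limits CategoryTheory.Pretriangulated AlgebraicGeometry
open scoped ZeroObject

attribute [local instance] HasDerivedCategory.standard

noncomputable section

namespace GrothLib.DQEquiv25

section General

variable {C : Type*} [Category C] [Abelian C] [HasDerivedCategory C]

/-- An object of the derived category without cohomology is zero. -/
theorem isZero_of_homology {K : DerivedCategory C}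
    (h : ∀ q, IsZero ((DerivedCategory.homologyFunctor C q).obj K)) : IsZero K := by
  haveI : IsIso (0 : K ⟶ K) := (DerivedCategory.isIso_iff _ _).2 fun q =>
    ⟨0, (h q).eq_of_src _ _, (h q).eq_of_src _ _⟩
  exact (IsZero.iff_id_eq_zero K).2 ((cancel_epi (0 : K ⟶ K)).1 (by simp))

end General

section Devissage

variable {C D : Type*} [Category C] [Category D] [Preadditive C] [Preadditive D] [HasZeroObject C] [HasZeroObject D]
  [HasShift C ℤ] [HasShift D ℤ] [∀ n : ℤ, (shiftFunctor C n).Additive] [∀ n : ℤ, (shiftFunctor D n).Additive]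
  [Pretriangulated C] [Pretriangulated D] (F : C ⥤ D) [F.Additive] [F.CommShift ℤ] [F.IsTriangulated]

/-- The five lemma on maps into a triangle. -/
theorem bijective_obj₂ (A : C) (T : Triangle C) (hT : T ∈ distTriang C)
    (h₁ : Function.Bijective fun φ : A ⟶ T.obj₁ => F.map φ)
    (h₃ : Function.Bijective fun φ : A ⟶ T.obj₃ => F.map φ)
    (h₁' : Function.Bijective fun φ : A ⟶ T.obj₁⟦(1 : ℤ)⟧ => F.map φ)
    (h₀ : Function.Bijective fun φ : A ⟶ T.invRotate.obj₁ => F.map φ) :
    Function.Bijective fun φ : A ⟶ T.obj₂ => F.map φ := by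
  refine ⟨fun φ φ' h => sub_eq_zero.1 ?_, fun ψ => ?_⟩
  · have h0 : F.map (φ - φ') = 0 := by rw [F.map_sub]; exact sub_eq_zero.2 h
    have h2 : (φ - φ') ≫ T.mor₂ = 0 :=
      h₃.1 (show F.map ((φ - φ') ≫ T.mor₂) = F.map 0 by rw [F.map_comp, h0, zero_comp, F.map_zero])
    obtain ⟨g, hg⟩ := Triangle.coyoneda_exact₂ T hT (φ - φ') h2
    have hg0 : F.map g ≫ (F.mapTriangle.obj T).mor₁ = 0 := by
      show F.map g ≫ F.map T.mor₁ = 0
      rw [← F.map_comp, ← hg, h0]
    have hT' := F.map_distinguished _ (inv_rot_of_distTriang _ hT)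
    obtain ⟨k, hk⟩ := Triangle.coyoneda_exact₂ _ hT' (F.map g) hg0
    obtain ⟨k', rfl⟩ := h₀.2 k
    have : g = k' ≫ T.invRotate.mor₁ := h₁.1 (hk.trans (F.map_comp _ _).symm)
    rw [hg, this, Category.assoc]
    exact (congrArg (k' ≫ ·) (comp_distTriang_mor_zero₁₂ _ (inv_rot_of_distTriang _ hT))).trans comp_zero
  · obtain ⟨a, ha⟩ := h₃.2 (ψ ≫ F.map T.mor₂)
    have h3 : a ≫ T.mor₃ = 0 := h₁'.1 (show F.map (a ≫ T.mor₃) = F.map 0 by
      rw [F.map_comp, show F.map a = ψ ≫ F.map T.mor₂ from ha, Category.assoc, ← F.map_comp,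
        comp_distTriang_mor_zero₂₃ _ hT, F.map_zero, comp_zero, F.map_zero])
    obtain ⟨b, hb⟩ := Triangle.coyoneda_exact₃ T hT a h3
    have hT' := F.map_distinguished _ hT
    obtain ⟨c, hc⟩ := Triangle.coyoneda_exact₂ _ hT' (ψ - F.map b) (by
      show (ψ - F.map b) ≫ F.map T.mor₂ = 0
      rw [Preadditive.sub_comp, ← F.map_comp, ← hb, sub_eq_zero]
      exact ha.symm)
    obtain ⟨c', rfl⟩ := h₁.2 c
    refine ⟨b + c' ≫ T.mor₁, ?_⟩
    change F.map (b + c' ≫ T.mor₁) = ψ
    rw [F.map_add, F.map_comp]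
    exact add_eq_of_eq_sub' hc.symm

end Devissage

variable {X : Scheme.{u}}

theorem subsingleton_app_of_isZero {M : X.Modules} (h : IsZero M) (V : X.Opens) : Subsingleton Γ(M, V) :=
  AddCommGrpCat.subsingleton_of_isZero
    ((((evaluation _ _).obj (Opposite.op V))).map_isZero ((Scheme.Modules.toPresheaf X).map_isZero h))

variable [ObjectProperty.ContainsZero (fun M : X.Modules => Coh.IsQCoh M)]
  [ObjectProperty.IsClosedUnderKernels (fun M : X.Modules => Coh.IsQCoh M)]
  [ObjectProperty.IsClosedUnderCokernels (fun M : X.Modules => Coh.IsQCoh M)]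
  [ObjectProperty.IsClosedUnderFiniteProducts (fun M : X.Modules => Coh.IsQCoh M)]
  [PreservesFiniteLimits (ObjectProperty.ι (fun M : X.Modules => Coh.IsQCoh M))]
  [PreservesFiniteColimits (ObjectProperty.ι (fun M : X.Modules => Coh.IsQCoh M))]
  {κ : Type} [Finite κ] {R : κ → CommRingCat.{u}} (j : ∀ k, Spec (R k) ⟶ X)
  [∀ k, IsOpenImmersion (j k)] [∀ k, QuasiCompact (j k)]
  (P : ∀ k, DerivedCategory (ModuleCat.{u} (R k)) ⥤ DerivedCategory (QC X))
  (adj : ∀ k, resQD (j k) ⊣ P k) [∀ k, IsIso (adj k).counit]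
  (hw : ∀ k N, Nonempty ((TD X).obj ((P k).obj N) ≅ (OX.RR (j k)).obj ((DCoh.tildeD (R k)).obj N)))

theorem hd_res_iso (K : DCoh.D X) (k : κ) (q : ℤ) :
    Nonempty (DCoh.HD ((OX.resD (j k)).obj K) q ≅ (Scheme.Modules.restrictFunctor (j k)).obj (DCoh.HD K q)) :=
  ⟨OX.HDResIso (j k) K q⟩

/-- Vanishing of an object on a chart, on cohomology. -/
theorem isZero_restrict_HD {K : DCoh.D X} {i : κ} (h : IsZero ((OX.resD (j i)).obj K)) (q : ℤ) :
    IsZero ((Scheme.Modules.restrictFunctor (j i)).obj (DCoh.HD K q)) :=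
  ((DerivedCategory.homologyFunctor _ q).map_isZero h).of_iso (hd_res_iso j K i q).some.symm

include hw in
/-- The direct image from the chart `k` of an object of `D(QCoh)` vanishes where its restriction source does. -/
theorem isZero_res_push {K : DCoh.D X} (k i : κ) (N : DerivedCategory (ModuleCat.{u} (R k)))
    (e : (DCoh.tildeD (R k)).obj N ≅ (OX.resD (j k)).obj K) (h : IsZero ((OX.resD (j i)).obj K)) :
    IsZero ((OX.resD (j i)).obj ((TD X).obj ((P k).obj N))) := by
  obtain ⟨w⟩ := hw k N
  let W : X.Opens := (j i).opensRange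
  have hW : IsZero ((OX.resD W.ι).obj K) := OX.isZero_resD_of_le W.ι (j i)
    (by rw [Scheme.Opens.range_ι]; exact le_rfl) h
  have hV : IsZero ((OX.resD (((j k) ⁻¹ᵁ W).ι)).obj ((OX.resD (j k)).obj K)) :=
    (OX.isZero_resD_of_le ((((j k) ⁻¹ᵁ W).ι) ≫ j k) W.ι (by
      rw [Scheme.Opens.range_ι]
      rintro _ ⟨y, rfl⟩
      exact y.2) hW).of_iso (OX.nonempty_resD_comp _ (j k) K).some.symm
  exact (OX.isZero_resD_of_le (j i) W.ι (by rw [Scheme.Opens.range_ι]; exact le_rfl)
    (OX.isZero_resD_RR_open (j k) W hV)).of_iso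
    ((OX.resD (j i)).mapIso (w ≪≫ (OX.RR (j k)).mapIso e))

variable (hcov : ∀ x : X, ∃ k, x ∈ Set.range (j k))

include hcov in
theorem isZero_of_charts {K : DCoh.D X} (hK : DCoh.IsQCohD K) (h : ∀ k, IsZero ((OX.resD (j k)).obj K)) :
    IsZero K := by
  refine isZero_of_homology fun q => OX.isZero_of_affine_cover (hK q) (fun k => (j k).opensRange)
    (fun k => isAffineOpen_opensRange (j k)) hcov fun k t => ?_
  have hz := isZero_restrict_HD j (h k) q
  haveI := subsingleton_app_of_isZero hz ⊤
  haveI : Subsingleton Γ(DCoh.HD K q, (j k).opensRange) := by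
    rw [← Scheme.Hom.image_top_eq_opensRange]
    exact ‹Subsingleton Γ((Scheme.Modules.restrictFunctor (j k)).obj (DCoh.HD K q), ⊤)›
  exact Subsingleton.elim _ _

include hcov in
theorem isZero_of_charts_TD {B : DerivedCategory (QC X)} (h : ∀ k, IsZero ((OX.resD (j k)).obj ((TD X).obj B))) :
    IsZero B :=
  isZero_of_homology fun q => (IsZero.iff_id_eq_zero _).2 ((qι X).map_injective
    (((DerivedCategory.homologyFunctor _ q).map_isZero (isZero_of_charts j hcov (isQCohD_TD B) h)).of_iso
      (hdTIso B q).symm |>.eq_of_src _ _))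

include hcov adj hw in
theorem bijective_TD_aux (S : Finset κ) : ∀ B : DerivedCategory (QC X),
    (∀ i, i ∉ S → IsZero ((OX.resD (j i)).obj ((TD X).obj B))) →
      ∀ A, Function.Bijective fun φ : A ⟶ B => (TD X).map φ := by
  classical
  induction S using Finset.induction with
  | empty =>
    intro B hB A
    have h0 := isZero_of_charts_TD j hcov fun k => hB k (Finset.notMem_empty k)
    exact ⟨fun _ _ _ => h0.eq_of_tgt _ _, fun ψ => ⟨0, ((TD X).map_isZero h0).eq_of_tgt _ _⟩⟩
  | @insert k S _ ih =>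
    intro B hB A
    let η := (adj k).unit.app B
    obtain ⟨C, p, d, hT⟩ := distinguished_cocone_triangle η
    let T := Triangle.mk η p d
    -- maps into the direct image
    have hpush : ∀ n : ℤ, Function.Bijective fun φ : A ⟶ ((P k).obj ((resQD (j k)).obj B))⟦n⟧ =>
        (TD X).map φ := fun n => by
      letI : (P k).CommShift ℤ := (adj k).rightAdjointCommShift ℤ
      let e := ((P k).commShiftIso n).app ((resQD (j k)).obj B)
      have := bijective_TD_P (j k) (adj k) A (((resQD (j k)).obj B)⟦n⟧) (hw k _)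
      have he : (fun φ : A ⟶ ((P k).obj ((resQD (j k)).obj B))⟦n⟧ => (TD X).map φ) =
          (fun ψ => ψ ≫ (TD X).map e.hom) ∘ (fun φ => (TD X).map φ) ∘ (fun φ => φ ≫ e.inv) := funext fun φ => by
        simp only [Function.comp_apply, ← Functor.map_comp, Category.assoc, Iso.inv_hom_id, Category.comp_id]
      rw [he]
      exact ((Iso.homToEquiv ((TD X).mapIso e)).bijective).comp (this.comp (Iso.homToEquiv e.symm).bijective)
    -- the cone
    let F' := TD X ⋙ OX.resD (j k)
    haveI hu : IsIso ((OX.resD (j k)).map ((TD X).map η)) := by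
      haveI : IsIso ((resQD (j k)).map η) := IsIso.of_isIso_fac_right (h := 𝟙 _) ((adj k).left_triangle_components B)
      exact (NatIso.isIso_map_iff (TDresIso (j k)) η).2 (inferInstanceAs (IsIso ((DCoh.tildeD (R k)).map ((resQD (j k)).map η))))
    have hC : ∀ (n : ℤ) (i : κ), i ∉ S → IsZero ((OX.resD (j i)).obj ((TD X).obj (C⟦n⟧))) := by
      intro n i hi
      have hshift : IsZero ((OX.resD (j i)).obj ((TD X).obj C)) →
          IsZero ((OX.resD (j i)).obj ((TD X).obj (C⟦n⟧))) := fun h =>
        ((shiftFunctor _ n).map_isZero h).of_iso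
          ((OX.resD (j i)).mapIso (((TD X).commShiftIso n).app C) ≪≫ ((OX.resD (j i)).commShiftIso n).app _)
      refine hshift ?_
      have hTi := (OX.resD (j i)).map_distinguished _ ((TD X).map_distinguished _ hT)
      by_cases hik : i = k
      · subst hik
        exact Triangle.isZero₃_of_isIso₁ _ hTi hu
      · have hi' : i ∉ insert k S := by simp [hik, hi]
        have h1 := hB i hi'
        have h2 : IsZero ((OX.resD (j i)).obj ((TD X).obj ((P k).obj ((resQD (j k)).obj B)))) :=
          isZero_res_push j P hw k i _ ((TDresIso (j k)).app B).symm h1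
        exact (Triangle.isZero₃_iff_isIso₁ _ hTi).2 ⟨0, h1.eq_of_src _ _, h2.eq_of_src _ _⟩
    have hbC : ∀ n : ℤ, Function.Bijective fun φ : A ⟶ C⟦n⟧ => (TD X).map φ :=
      fun n => ih _ (hC n) A
    have h0 : ∀ {W : DerivedCategory (QC X)}, (Function.Bijective fun φ : A ⟶ W⟦(0 : ℤ)⟧ => (TD X).map φ) →
        Function.Bijective fun φ : A ⟶ W => (TD X).map φ := fun {W} h => by
      let e := (shiftFunctorZero (DerivedCategory (QC X)) ℤ).app W
      have he : (fun φ : A ⟶ W => (TD X).map φ) =
          (fun ψ => ψ ≫ (TD X).map e.hom) ∘ (fun φ => (TD X).map φ) ∘ (fun φ => φ ≫ e.inv) := funext fun φ => by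
        simp only [Function.comp_apply, ← Functor.map_comp, Category.assoc, Iso.inv_hom_id, Category.comp_id]
      rw [he]
      exact ((Iso.homToEquiv ((TD X).mapIso e)).bijective).comp (h.comp (Iso.homToEquiv e.symm).bijective)
    have hT' := inv_rot_of_distTriang _ hT
    refine bijective_obj₂ (TD X) A T.invRotate hT' (hbC (-1)) (h0 (hpush 0)) ?_ (hpush (-1))
    have h := h0 (hbC 0)
    let e := (shiftEquiv (DerivedCategory (QC X)) (1 : ℤ)).counitIso.app C
    have he : (fun φ : A ⟶ T.invRotate.obj₁⟦(1 : ℤ)⟧ => (TD X).map φ) =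
        (fun ψ => ψ ≫ (TD X).map e.inv) ∘ (fun φ => (TD X).map φ) ∘ (fun φ => φ ≫ e.hom) := funext fun φ => by
      simp only [Function.comp_apply, ← Functor.map_comp, Category.assoc, Iso.hom_inv_id, Category.comp_id]
    rw [he]
    exact ((Iso.homToEquiv ((TD X).mapIso e.symm)).bijective).comp (h.comp (Iso.homToEquiv e).bijective)

include hcov adj hw in
/-- Full faithfulness. -/
theorem bijective_TD (A B : DerivedCategory (QC X)) : Function.Bijective fun φ : A ⟶ B => (TD X).map φ := by
  classical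
  haveI := Fintype.ofFinite κ
  exact bijective_TD_aux j P adj hw hcov Finset.univ B (fun i hi => absurd (Finset.mem_univ i) hi) A

include hcov adj hw in
theorem essImage_aux (S : Finset κ) : ∀ K : DCoh.D X, DCoh.IsQCohD K →
    (∀ i, i ∉ S → IsZero ((OX.resD (j i)).obj K)) → ∃ B, Nonempty ((TD X).obj B ≅ K) := by
  classical
  induction S using Finset.induction with
  | empty =>
    intro K hK h
    exact ⟨0, ⟨((TD X).map_isZero (isZero_zero _)).iso (isZero_of_charts j hcov hK fun k => h k (Finset.notMem_empty k))⟩⟩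
  | @insert k S _ ih =>
    intro K hK h
    obtain ⟨N, ⟨e⟩⟩ := OX.exists_tildeD_rep hK (j k)
    let W := (P k).obj N
    obtain ⟨w⟩ := hw k N
    let u : K ⟶ (TD X).obj W := (OX.resDAdj (j k)).unit.app K ≫ (OX.RR (j k)).map e.inv ≫ w.inv
    haveI : IsIso ((OX.resD (j k)).map u) := by
      haveI := OX.isIso_resD_unit (j k) K
      simp only [u, Functor.map_comp]
      infer_instance
    obtain ⟨C, p, d, hT⟩ := distinguished_cocone_triangle u
    have hC : DCoh.IsQCohD C := OX.isQCohD_obj₃ hT hK (isQCohD_TD W)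
    have hCz : ∀ i, i ∉ S → IsZero ((OX.resD (j i)).obj C) := fun i hi => by
      have hTi := (OX.resD (j i)).map_distinguished _ hT
      refine (Triangle.isZero₃_iff_isIso₁ _ hTi).2 ?_
      by_cases hik : i = k
      · subst hik
        exact inferInstanceAs (IsIso ((OX.resD (j i)).map u))
      · have h1 := h i (by simp [hik, hi])
        have h2 := isZero_res_push j P hw k i N e h1
        exact ⟨0, h1.eq_of_src _ _, h2.eq_of_src _ _⟩
    obtain ⟨M, ⟨c⟩⟩ := ih C hC hCz
    obtain ⟨g, hg⟩ := (bijective_TD j P adj hw hcov W M).2 (p ≫ c.inv)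
    obtain ⟨Z, a, b, hZ⟩ := distinguished_cocone_triangle g
    let i := isoTriangleOfIso₁₂ ((TD X).mapTriangle.obj (Triangle.mk g a b)) (Triangle.mk u p d).rotate
      ((TD X).map_distinguished _ hZ) (rot_of_distTriang _ hT) (Iso.refl _) c
      (show (TD X).map g ≫ c.hom = 𝟙 _ ≫ p by
        rw [show (TD X).map g = p ≫ c.inv from hg, Category.assoc, c.inv_hom_id, Category.comp_id, Category.id_comp])
    exact ⟨Z⟦(-1 : ℤ)⟧, ⟨((TD X).commShiftIso (-1 : ℤ)).app Z ≪≫
      (shiftFunctor (DCoh.D X) (-1 : ℤ)).mapIso (Triangle.π₃.mapIso i) ≪≫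
      ((shiftEquiv (DCoh.D X) (1 : ℤ)).unitIso.app K).symm⟩⟩

include hcov adj hw in
/-- Essential image. -/
theorem exists_preimage (K : DCoh.D X) (hK : DCoh.IsQCohD K) : ∃ B, Nonempty ((TD X).obj B ≅ K) := by
  classical
  haveI := Fintype.ofFinite κ
  exact essImage_aux j P adj hw hcov Finset.univ K hK fun i hi => absurd (Finset.mem_univ i) hi

end GrothLib.DQEquiv25
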