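import Groth.Agent.Lib.DQEquiv25.Equiv
import Groth.Agent.Lib.InjTilde20.Main
import Groth.Agent.Lib.QCohCat20.General
import Groth.Agent.Lib.OX.AcyclicPush
import Groth.Agent.Lib.KInj.Adjoint
import Groth.Agent.Lib.KInj.Resolution

/-!
# Charts of the derived category of quasi-coherent modules on a Noetherian scheme

The direct image from a chart is right derived; it is computed by complexes of injective modules.
-/

set_option autoImplicit false
set_option maxHeartbeats 1000000
set_option linter.style.haveILetI false
set_option linter.unusedSectionVars false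
set_option backward.isDefEq.respectTransparency false
universe u

open CategoryTheory CategoryTheory.Limits CategoryTheory.Pretriangulated AlgebraicGeometry

attribute [local instance] HasDerivedCategory.standard

noncomputable section

namespace GrothLib.DQEquiv25

variable {X : Scheme.{u}}
  [ObjectProperty.ContainsZero (fun M : X.Modules => Coh.IsQCoh M)]
  [ObjectProperty.IsClosedUnderKernels (fun M : X.Modules => Coh.IsQCoh M)]
  [ObjectProperty.IsClosedUnderCokernels (fun M : X.Modules => Coh.IsQCoh M)]
  [ObjectProperty.IsClosedUnderFiniteProducts (fun M : X.Modules => Coh.IsQCoh M)]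
  [PreservesFiniteLimits (ObjectProperty.ι (fun M : X.Modules => Coh.IsQCoh M))]
  [PreservesFiniteColimits (ObjectProperty.ι (fun M : X.Modules => Coh.IsQCoh M))]

instance isGrothendieckAbelian_QC : IsGrothendieckAbelian.{u} (QC X) :=
  QCohCat20.isGrothendieckAbelian_general X

variable {R : CommRingCat.{u}} (j : Spec R ⟶ X) [IsOpenImmersion j] [QuasiCompact j]
  [PreservesFiniteLimits (tilde.functor R)]

/-- The right derived direct image from the chart. -/
abbrev pushQR : DerivedCategory (ModuleCat.{u} R) ⥤ DerivedCategory (QC X) :=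
  KInj.res (ModuleCat.{u} R) ⋙ (pushQ j).mapHomotopyCategory (ComplexShape.up ℤ) ⋙ DerivedCategory.Qh

/-- Restriction is left adjoint to the derived direct image. -/
def adjQR : resQD j ⊣ pushQR j := KInj.derivedAdj (resPushAdj j)

/-- Restricting a derived direct image gives back the object. -/
def resPushRIso : pushQR j ⋙ resQD j ≅ 𝟭 (DerivedCategory (ModuleCat.{u} R)) :=
  Functor.associator (KInj.res (ModuleCat.{u} R)) _ (resQD j) ≪≫
    Functor.isoWhiskerLeft (KInj.res (ModuleCat.{u} R))
      (Functor.associator _ DerivedCategory.Qh (resQD j) ≪≫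
        Functor.isoWhiskerLeft _ (resQ j).mapDerivedCategoryFactorsh ≪≫
        (Functor.associator _ _ _).symm ≪≫
        Functor.isoWhiskerRight (NatIso.ofComponents (fun K => (HomotopyCategory.quotient _ _).mapIso
            (HomologicalComplex.Hom.isoOfComponents (fun i => (pushResIso j).app (K.as.X i))
              (fun a b _ => ((pushResIso j).hom.naturality (K.as.d a b)).symm)))
          (by
            rintro ⟨C⟩ ⟨D⟩ ⟨f : C ⟶ D⟩
            change (HomotopyCategory.quotient _ _).map _ ≫ (HomotopyCategory.quotient _ _).map _ =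
              (HomotopyCategory.quotient _ _).map _ ≫ (HomotopyCategory.quotient _ _).map _
            rw [← Functor.map_comp, ← Functor.map_comp]
            refine congrArg _ ?_
            refine HomologicalComplex.hom_ext _ _ fun n => ?_
            exact (pushResIso j).hom.naturality (f.f n)) :
          (pushQ j).mapHomotopyCategory (ComplexShape.up ℤ) ⋙ (resQ j).mapHomotopyCategory (ComplexShape.up ℤ) ≅
            𝟭 (HomotopyCategory (ModuleCat.{u} R) (ComplexShape.up ℤ))) DerivedCategory.Qh ≪≫
        Functor.leftUnitor _) ≪≫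
    asIso (KInj.resAdj (ModuleCat.{u} R)).counit

instance isIso_counitQR : IsIso (adjQR j).counit := (adjQR j).isIso_counit_of_iso (resPushRIso j)

/-- The derived direct images from the chart agree. -/
theorem nonempty_TD_pushQR [IsNoetherianRing R] (N : DerivedCategory (ModuleCat.{u} R)) :
    Nonempty ((TD X).obj ((pushQR j).obj N) ≅ (OX.RR j).obj ((DCoh.tildeD R).obj N)) := by
  let C := DerivedCategory.Q.objPreimage N
  obtain ⟨I, i, hi, hK, hI⟩ := KInj.exists_kInjective_resolution (A := ModuleCat.{u} R) C
  haveI := hi
  haveI := hK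
  let e : DerivedCategory.Q.obj I ≅ N :=
    (asIso (DerivedCategory.Q.map i)).symm ≪≫ DerivedCategory.Q.objObjPreimageIso N
  let QI := (HomotopyCategory.quotient (ModuleCat.{u} R) (ComplexShape.up ℤ)).obj I
  haveI := KInj.isIso_unit_of_rightOrthogonal (X := QI) (CochainComplex.IsKInjective.rightOrthogonal I)
  let eR : (pushQR j).obj N ≅ DerivedCategory.Q.obj (((pushQ j).mapHomologicalComplex (ComplexShape.up ℤ)).obj I) :=
    (pushQR j).mapIso (e.symm ≪≫ ((DerivedCategory.quotientCompQhIso _).app I).symm) ≪≫
      (((pushQ j).mapHomotopyCategory (ComplexShape.up ℤ) ⋙ DerivedCategory.Qh).mapIso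
        (asIso ((KInj.resAdj (ModuleCat.{u} R)).unit.app QI)).symm) ≪≫
      DerivedCategory.Qh.mapIso (((pushQ j).mapHomotopyCategoryFactors (ComplexShape.up ℤ)).app I) ≪≫
      (DerivedCategory.quotientCompQhIso _).app _
  let tI := ((tilde.functor R).mapHomologicalComplex (ComplexShape.up ℤ)).obj I
  have hq : ∀ n, Coh.IsQCoh (tI.X n) := fun n =>
    (inferInstance : ((tilde.functor R).obj (I.X n)).IsQuasicoherent)
  haveI := OX.isIso_pushUnit_of_acyclic j tI hq fun n => by
    haveI := hI n
    haveI : Injective (tI.X n) :=
      InjTilde20.injective_tilde (I.X n) (Module.injective_module_of_injective_object _ (I.X n))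
    exact GrothSS.isAcyclicObj_of_injective _ _
  exact ⟨(TD X).mapIso eR ≪≫ (qι X).mapDerivedCategoryFactors.app _ ≪≫
    DerivedCategory.Q.mapIso (HomologicalComplex.Hom.isoOfComponents (fun _ => Iso.refl _)
      (fun _ _ _ => (Category.id_comp _).trans (Category.comp_id _).symm)) ≪≫
    ((DerivedCategory.quotientCompQhIso X.Modules).app _).symm ≪≫
    asIso (OX.pushUnit j tI) ≪≫ (OX.RR j).mapIso ((DerivedCategory.quotientCompQhIso _).app tI) ≪≫
    (OX.RR j).mapIso (((tilde.functor R).mapDerivedCategoryFactors.app I).symm ≪≫ (DCoh.tildeD R).mapIso e)⟩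

end GrothLib.DQEquiv25
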