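import Groth.Agent.Lib.DQEquiv25.Noeth
import Groth.Agent.Lib.AffDiag22.Basic
import Groth.Agent.Lib.BCAcyc22.RelCech

/-!
# Direct images of quasi-coherent complexes and derived direct images
-/

set_option autoImplicit false
set_option maxHeartbeats 1000000
set_option linter.style.haveILetI false
set_option linter.unusedSectionVars false
set_option backward.isDefEq.respectTransparency false
universe u

open CategoryTheory CategoryTheory.Limits AlgebraicGeometry

attribute [local instance] HasDerivedCategory.standard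

noncomputable section

namespace GrothLib.DQEquiv25

variable {X Y : Scheme.{u}}
  [ObjectProperty.ContainsZero (fun M : X.Modules => Coh.IsQCoh M)]
  [ObjectProperty.IsClosedUnderKernels (fun M : X.Modules => Coh.IsQCoh M)]
  [ObjectProperty.IsClosedUnderCokernels (fun M : X.Modules => Coh.IsQCoh M)]
  [ObjectProperty.IsClosedUnderFiniteProducts (fun M : X.Modules => Coh.IsQCoh M)]
  [PreservesFiniteLimits (ObjectProperty.ι (fun M : X.Modules => Coh.IsQCoh M))]
  [PreservesFiniteColimits (ObjectProperty.ι (fun M : X.Modules => Coh.IsQCoh M))]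
  [ObjectProperty.ContainsZero (fun M : Y.Modules => Coh.IsQCoh M)]
  [ObjectProperty.IsClosedUnderKernels (fun M : Y.Modules => Coh.IsQCoh M)]
  [ObjectProperty.IsClosedUnderCokernels (fun M : Y.Modules => Coh.IsQCoh M)]
  [ObjectProperty.IsClosedUnderFiniteProducts (fun M : Y.Modules => Coh.IsQCoh M)]
  [PreservesFiniteLimits (ObjectProperty.ι (fun M : Y.Modules => Coh.IsQCoh M))]
  [PreservesFiniteColimits (ObjectProperty.ι (fun M : Y.Modules => Coh.IsQCoh M))]
  (f : X ⟶ Y)
  (hf : ∀ M : X.Modules, Coh.IsQCoh M → Coh.IsQCoh ((Scheme.Modules.pushforward f).obj M))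

/-- Direct image of quasi-coherent modules. -/
abbrev fQ : QC X ⥤ QC Y :=
  ObjectProperty.lift (fun M : Y.Modules => Coh.IsQCoh M) (qι X ⋙ Scheme.Modules.pushforward f)
    (fun M => hf M.obj M.property)

variable [(fQ f hf).Additive]

/-- The direct image of a complex of quasi-coherent modules, as a complex of modules. -/
def fQιIso : (fQ f hf).mapHomotopyCategory (ComplexShape.up ℤ) ⋙ (qι Y).mapHomotopyCategory (ComplexShape.up ℤ) ≅
    (qι X).mapHomotopyCategory (ComplexShape.up ℤ) ⋙
      (Scheme.Modules.pushforward f).mapHomotopyCategory (ComplexShape.up ℤ) :=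
  NatIso.ofComponents (fun K => (HomotopyCategory.quotient _ _).mapIso
      (HomologicalComplex.Hom.isoOfComponents (fun i => Iso.refl _)
        (fun a b _ => (Category.id_comp _).trans (Category.comp_id _).symm)))
    (by
      rintro ⟨C⟩ ⟨D⟩ ⟨g : C ⟶ D⟩
      change (HomotopyCategory.quotient _ _).map _ ≫ (HomotopyCategory.quotient _ _).map _ =
        (HomotopyCategory.quotient _ _).map _ ≫ (HomotopyCategory.quotient _ _).map _
      rw [← Functor.map_comp, ← Functor.map_comp]
      refine congrArg _ ?_
      refine HomologicalComplex.hom_ext _ _ fun n => ?_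
      exact (Category.comp_id _).trans (Category.id_comp _).symm)

/-- The comparison on homotopy categories. -/
abbrev cmp : (qι X).mapHomotopyCategory (ComplexShape.up ℤ) ⋙ DCoh.pushKh f ⟶
    (qι X).mapHomotopyCategory (ComplexShape.up ℤ) ⋙ DerivedCategory.Qh ⋙ OX.RR f :=
  { app := fun K => (DCoh.pushKh f).map
      ((KInj.resAdj X.Modules).unit.app (((qι X).mapHomotopyCategory (ComplexShape.up ℤ)).obj K))
    naturality := fun K L g => ((DCoh.pushKh f).map_comp _ _).symm.trans ((congrArg (DCoh.pushKh f).map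
      ((KInj.resAdj X.Modules).unit.naturality (((qι X).mapHomotopyCategory (ComplexShape.up ℤ)).map g))).trans
        ((DCoh.pushKh f).map_comp _ _)) }

theorem isIso_cmp_app [QuasiCompact f] [QuasiSeparated f]
    (hac : ∀ M : QC X, Injective M → GrothSS.IsAcyclicObj (Scheme.Modules.pushforward f) M.obj)
    (B : DerivedCategory (QC X)) : IsIso ((cmp f).app ((KInj.res (QC X)).obj B)) := by
  let C := DerivedCategory.Q.objPreimage B
  obtain ⟨I, i, hi, hK, hI⟩ := KInj.exists_kInjective_resolution (A := QC X) C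
  haveI := hi
  haveI := hK
  let e : DerivedCategory.Q.obj I ≅ B :=
    (asIso (DerivedCategory.Q.map i)).symm ≪≫ DerivedCategory.Q.objObjPreimageIso B
  let QI := (HomotopyCategory.quotient (QC X) (ComplexShape.up ℤ)).obj I
  haveI := KInj.isIso_unit_of_rightOrthogonal (X := QI) (CochainComplex.IsKInjective.rightOrthogonal I)
  let w : QI ≅ (KInj.res (QC X)).obj B := asIso ((KInj.resAdj (QC X)).unit.app QI) ≪≫
    (KInj.res (QC X)).mapIso ((DerivedCategory.quotientCompQhIso _).app I ≪≫ e)
  refine (NatTrans.isIso_app_iff_of_iso (cmp f) w).1 ?_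
  let J := ((qι X).mapHomologicalComplex (ComplexShape.up ℤ)).obj I
  exact OX.isIso_pushUnit_of_acyclic f J (fun n => (I.X n).property) fun n => hac (I.X n) (hI n)

/-- **`Rf_*` is computed on quasi-coherent modules.** -/
theorem nonempty_comparison [QuasiCompact f] [QuasiSeparated f] [DCoh.HasRpush f]
    [((fQ f hf).mapHomotopyCategory (ComplexShape.up ℤ) ⋙ DerivedCategory.Qh).HasRightDerivedFunctor
      (HomotopyCategory.quasiIso (QC X) (ComplexShape.up ℤ))]
    (hac : ∀ M : QC X, Injective M → GrothSS.IsAcyclicObj (Scheme.Modules.pushforward f) M.obj) :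
    Nonempty (((fQ f hf).mapHomotopyCategory (ComplexShape.up ℤ) ⋙ DerivedCategory.Qh).totalRightDerived
        DerivedCategory.Qh (HomotopyCategory.quasiIso (QC X) (ComplexShape.up ℤ)) ⋙ TD Y ≅
      TD X ⋙ DCoh.Rpush f) := by
  haveI : ∀ B, IsIso ((Functor.whiskerLeft (KInj.res (QC X)) (cmp f)).app B) := isIso_cmp_app f hac
  haveI : IsIso (Functor.whiskerLeft (KInj.res (QC X)) (cmp f)) := NatIso.isIso_of_isIso_app _
  let l : ((fQ f hf).mapHomotopyCategory (ComplexShape.up ℤ) ⋙ DerivedCategory.Qh) ⋙ TD Y ≅
      (qι X).mapHomotopyCategory (ComplexShape.up ℤ) ⋙ DCoh.pushKh f :=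
    Functor.associator _ _ _ ≪≫ Functor.isoWhiskerLeft _ (qι Y).mapDerivedCategoryFactorsh ≪≫
      (Functor.associator _ _ _).symm ≪≫ Functor.isoWhiskerRight (fQιIso f hf) _ ≪≫ Functor.associator _ _ _
  let r : KInj.res (QC X) ⋙ (qι X).mapHomotopyCategory (ComplexShape.up ℤ) ⋙ DerivedCategory.Qh ⋙ OX.RR f ≅
      TD X ⋙ OX.RR f :=
    Functor.isoWhiskerLeft _ ((Functor.associator _ _ _).symm ≪≫
      Functor.isoWhiskerRight (qι X).mapDerivedCategoryFactorsh.symm _ ≪≫ Functor.associator _ _ _) ≪≫
    (Functor.associator _ _ _).symm ≪≫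
    Functor.isoWhiskerRight (asIso (KInj.resAdj (QC X)).counit) _ ≪≫ Functor.leftUnitor _
  exact ⟨Functor.isoWhiskerRight (KInj.totalRightDerivedIso _) _ ≪≫ Functor.associator _ _ _ ≪≫
    Functor.isoWhiskerLeft _ l ≪≫ asIso (Functor.whiskerLeft (KInj.res (QC X)) (cmp f)) ≪≫ r ≪≫
    Functor.isoWhiskerLeft _ (OX.rpushIsoRres f).symm⟩

/-- A retract of an acyclic object is acyclic. -/
theorem isAcyclicObj_of_retract {A B : Type*} [Category A] [Abelian A] [EnoughInjectives A] [Category B]
    [Abelian B] (S : A ⥤ B) [S.Additive] {M N : A} (i : M ⟶ N) (r : N ⟶ M) (hir : i ≫ r = 𝟙 M)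
    (h : GrothSS.IsAcyclicObj S N) : GrothSS.IsAcyclicObj S M := fun k => by
  refine (IsZero.iff_id_eq_zero _).2 ?_
  rw [← (S.rightDerived (k + 1)).map_id, ← hir, Functor.map_comp, (h k).eq_of_tgt ((S.rightDerived (k + 1)).map i) 0,
    zero_comp]

open scoped Classical in
/-- On schemes with affine diagonal injective quasi-coherent modules are acyclic for direct images. -/
theorem isAcyclicObj_of_injective_QC [CompactSpace X] [HasInjectiveResolutions X.Modules]
    [IsAffineHom (pullback.diagonal (terminal.from X))] [IsAffineHom (pullback.diagonal (terminal.from Y))]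
    (M : QC X) [Injective M] : GrothSS.IsAcyclicObj (Scheme.Modules.pushforward f) M.obj := by
  haveI : HasFiniteBiproducts (QC X) := Abelian.hasFiniteBiproducts
  haveI : HasFiniteBiproducts X.Modules := Abelian.hasFiniteBiproducts
  obtain ⟨κ, _, V, hV, -, hcov⟩ := QCoh.exists_finite_affine_cover (U := (⊤ : X.Opens))
    (by simpa using isCompact_univ)
  let e := Fintype.equivFin κ
  let W : Fin (Fintype.card κ) → X.Opens := fun l => V (e.symm l)
  have hW : ∀ l, IsAffineOpen (W l) := fun l => hV _
  let j := fun l => (hW l).fromSpec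
  haveI : ∀ l, IsAffineHom (j l) := fun l => AffDiag22.isAffineHom_of_isAffine_source (j l)
  haveI : ∀ l, IsAffineHom (j l ≫ f) := fun l => AffDiag22.isAffineHom_of_isAffine_source (j l ≫ f)
  let G : Fin (Fintype.card κ) → QC X := fun l => (pushQ (j l)).obj ((resQ (j l)).obj M)
  let u : M ⟶ ⨁ G := biproduct.lift fun l => (resPushAdj (j l)).unit.app M
  have hu : Mono u := by
    refine Preadditive.mono_of_kernel_zero ?_
    have hz : ∀ l, (resQ (j l)).map (kernel.ι u) = 0 := fun l => by
      have h0 : kernel.ι u ≫ (resPushAdj (j l)).unit.app M = 0 := by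
        rw [← biproduct.lift_π (f := G) (fun l => (resPushAdj (j l)).unit.app M) l, ← Category.assoc]
        exact (congrArg (· ≫ biproduct.π G l) (kernel.condition u)).trans zero_comp
      haveI : Mono ((resQ (j l)).map ((resPushAdj (j l)).unit.app M)) :=
        mono_of_mono_fac ((resPushAdj (j l)).left_triangle_components M)
      rw [← cancel_mono ((resQ (j l)).map ((resPushAdj (j l)).unit.app M)), ← Functor.map_comp, h0,
        Functor.map_zero, zero_comp]
    have hK : IsZero ((qι X).obj (kernel u)) := OX.isZero_of_affine_cover (kernel u).property W hW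
      (fun x => by
        obtain ⟨i, hi⟩ := TopologicalSpace.Opens.mem_iSup.1 (hcov (Set.mem_univ x))
        exact ⟨e i, by simpa [W] using hi⟩)
      fun l (t : Γ((kernel u).obj, W l)) => by
        have h1 : IsZero ((resQ (j l)).obj (kernel u)) := IsZero.of_mono_eq_zero _ (hz l)
        have h2 : IsZero ((Scheme.Modules.restrictFunctor (j l)).obj (kernel u).obj) :=
          ((tilde.functor _).map_isZero h1).of_iso ((tildeResIso (j l)).app _).symm
        haveI := subsingleton_app_of_isZero h2 ⊤
        have hs : Subsingleton Γ((kernel u).obj, W l) := by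
          rw [← (hW l).opensRange_fromSpec, ← Scheme.Hom.image_top_eq_opensRange]
          exact ‹Subsingleton Γ((Scheme.Modules.restrictFunctor (j l)).obj (kernel u).obj, ⊤)›
        exact hs.elim _ _
    exact (IsZero.of_iso ((IsZero.iff_id_eq_zero _).2 ((qι X).map_injective (hK.eq_of_src _ _))) (Iso.refl _)).eq_of_src _ _
  obtain ⟨r, hr⟩ := Injective.factors (𝟙 M) u
  refine isAcyclicObj_of_retract _ ((qι X).map u) ((qι X).map r) (by rw [← Functor.map_comp, hr]; exact (qι X).map_id M) ?_
  haveI : PreservesFiniteBiproducts (qι X) := Functor.preservesFiniteBiproductsOfAdditive _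
  refine GrothSS.isAcyclicObj_of_iso _ ((qι X).mapBiproduct G).symm fun k => ?_
  exact BCAcyc22.isZero_map_biproduct ((Scheme.Modules.pushforward f).rightDerived (k + 1)) _ fun l => by
    haveI : ((tilde.functor _).obj ((resQ (j l)).obj M)).IsQuasicoherent := inferInstance
    exact Cohom.isZero_Rpush_of_acyclicOn f _ (Cohom.acyclicOn_pushforward (j l) f _) k

end GrothLib.DQEquiv25
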